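import Groth.Agent.AmpleLib.Pullback
import Groth.Agent.CastLib.InterDeg
import Groth.Agent.CubeLib.Artin
import Groth.Agent.CubeLib.Sec
import Groth.Agent.DVRCrit.Local
import Groth.Agent.EtAssocLib.Compare
import Groth.Agent.FlatLocus.FibreStalk
import Groth.Agent.SurfPtBlow.RelMin

/-!
# Sections of modules of degree zero on the vertical components
-/

set_option autoImplicit false
set_option backward.isDefEq.respectTransparency false
set_option linter.style.haveILetI false

universe u

open CategoryTheory CategoryTheory.Limits AlgebraicGeometry TopologicalSpace IsLocalRing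
open Groth.Agent.ParaFLib Groth.Agent.AmpleLib

noncomputable section

namespace Groth.Agent.GenTrivVertLib

variable {R : Type u} [CommRing R] [IsDomain R] [IsDiscreteValuationRing R]
  {X : Scheme.{u}} (f : X ⟶ Spec (CommRingCat.of R))

/-- The vertical curve underlying a component of the special fibre. -/
theorem exists_vertComp {Z : Set ↥(f.fiber (closedPoint R))} (hZ : Z ∈ irreducibleComponents ↥(f.fiber (closedPoint R)))
    (hdim : topologicalKrullDim Z = 1) :
    ∃ Γ : ArSurf.VertComp R (Over.mk f), Set.range Γ.ι = f.fiberι (closedPoint R) '' Z := by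
  have hclF : IsClosed (Set.range (f.fiberι (closedPoint R))) := by
    rw [Scheme.Hom.range_fiberι]
    exact (IsLocalRing.isClosed_singleton_closedPoint R).preimage f.continuous
  have hemb := (f.fiberι (closedPoint R)).isEmbedding
  have hcl : IsClosed (f.fiberι (closedPoint R) '' Z) :=
    (Topology.IsClosedEmbedding.mk hemb hclF).isClosedMap _ (isClosed_of_mem_irreducibleComponents Z hZ)
  let I := Scheme.IdealSheafData.vanishingIdeal (X := X) ⟨_, hcl⟩
  haveI : IsReduced I.subscheme := DVRCrit.isReduced_vanishingIdeal _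
  have hrange : Set.range I.subschemeι = f.fiberι (closedPoint R) '' Z := by
    rw [Scheme.IdealSheafData.range_subschemeι, Scheme.IdealSheafData.coe_support_vanishingIdeal]
    rfl
  have hdimC : topologicalKrullDim I.subscheme = 1 := by
    rw [← hdim]
    let e : I.subscheme ≃ₜ Z := (I.subschemeι.isEmbedding.toHomeomorph.trans (Homeomorph.setCongr hrange)).trans
      (hemb.homeomorphImage Z).symm
    exact e.isHomeomorph.topologicalKrullDim_eq
  haveI : IrreducibleSpace I.subscheme := by
    have hirr : IsIrreducible (Set.range I.subschemeι) := by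
      rw [hrange]; exact hZ.1.image _ hemb.continuous.continuousOn
    haveI : Nonempty I.subscheme := by
      obtain ⟨_, c, -⟩ := hirr.1
      exact ⟨c⟩
    haveI : PreirreducibleSpace I.subscheme := ⟨by
      intro u v hu hv
      obtain ⟨u', hu', rfl⟩ := I.subschemeι.isEmbedding.isInducing.isOpen_iff.1 hu
      obtain ⟨v', hv', rfl⟩ := I.subschemeι.isEmbedding.isInducing.isOpen_iff.1 hv
      rintro ⟨a, -, ha⟩ ⟨b, -, hb⟩
      obtain ⟨_, ⟨c, rfl⟩, hcu, hcv⟩ := hirr.2 u' v' hu' hv' ⟨_, ⟨a, rfl⟩, ha⟩ ⟨_, ⟨b, rfl⟩, hb⟩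
      exact ⟨c, trivial, hcu, hcv⟩⟩
    exact ⟨inferInstance⟩
  haveI : IsIntegral I.subscheme := isIntegral_of_irreducibleSpace_of_isReduced _
  haveI : IsClosedImmersion (Spec.map (CommRingCat.ofHom (IsLocalRing.residue R))) :=
    IsClosedImmersion.spec_of_surjective _ Ideal.Quotient.mk_surjective
  obtain ⟨q, hq⟩ := DVRCrit.exists_factor_closed (Spec.map (CommRingCat.ofHom (IsLocalRing.residue R)))
    (I.subschemeι ≫ f) (by
      rintro _ ⟨c, rfl⟩
      refine ⟨closedPoint (ResidueField R), ?_⟩
      obtain ⟨z, -, hz⟩ : I.subschemeι c ∈ f.fiberι (closedPoint R) '' Z := hrange ▸ ⟨c, rfl⟩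
      have : f (f.fiberι (closedPoint R) z) = closedPoint R := by
        have h : f.fiberι (closedPoint R) z ∈ Set.range (f.fiberι (closedPoint R)) := ⟨z, rfl⟩
        rw [Scheme.Hom.range_fiberι] at h
        exact h
      rw [Scheme.Hom.comp_apply, ← hz, this]
      exact IsLocalRing.comap_closedPoint (IsLocalRing.residue R))
  exact ⟨⟨Over.mk q, I.subschemeι, inferInstanceAs (IsClosedImmersion I.subschemeι),
    inferInstanceAs (IsIntegral I.subscheme), hdimC, hq.symm⟩, hrange⟩

/-- A section of a module of degree zero on a vertical curve generates everywhere on it or nowhere. -/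
theorem forall_mem_genLocus_of_inter_eq_zero [IsProper f] {L : X.Modules} (hL : PicF.IsInvertible L)
    (Γ : ArSurf.VertComp R (Over.mk f)) (hdeg : ArSurf.inter R (Over.mk f) L Γ = 0)
    (s : Coh.structureModule X ⟶ L) (c : Γ.curve.left) (hc : Γ.ι c ∈ CohB1.genLocus L s) (d : Γ.curve.left) :
    Γ.ι d ∈ CohB1.genLocus L s := by
  letI : Γ.curve.left.Over (Spec (CommRingCat.of (ResidueField R))) := ⟨Γ.curve.hom⟩
  haveI : IsProper (Over.mk f).hom := inferInstanceAs (IsProper f)
  haveI := CastLib.isProper_vertComp Γ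
  let φ := pullS Γ.ι s
  have hLp := isInvertible_pullback Γ.ι hL
  have hgl := genLocus_pullS Γ.ι hL s
  have hc' : c ∈ CohB1.genLocus _ φ := by rw [hgl]; exact hc
  have hφ : φ ≠ 0 := by
    intro h0
    have hb := (mem_genLocus_iff hLp).1 hc'
    have hz : sec φ = 0 := by rw [h0]; rfl
    rw [hz, map_zero] at hb
    exact one_ne_zero (hb.1 (show (1 : Γ.curve.left.presheaf.stalk c) • _ = (0 : Γ.curve.left.presheaf.stalk c) • _ by
      rw [smul_zero, smul_zero]))
  haveI : IsIso φ := (CurveLib.deg_le_of_ne_zero (k := ResidueField R) Γ.dim_eq.le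
    ParaFLib.isInvertible_structureModule hLp hφ).2 (by
      rw [CurveLib.deg_structureModule, ← CastLib.curveDeg_eq_deg Γ.dim_eq.le]
      exact hdeg.symm)
  have htop : (⊤ : Γ.curve.left.Opens) ≤ CohB1.genLocus _ φ := le_sSup (by
    show IsIso ((Scheme.Modules.restrictFunctor (⊤ : Γ.curve.left.Opens).ι).map φ)
    infer_instance)
  have hd := htop (show d ∈ (⊤ : Γ.curve.left.Opens) from trivial)
  rw [hgl] at hd
  exact hd

/-- On a connected special fibre with vanishing degrees the generation locus of a section contains everything or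
nothing. -/
theorem forall_mem_genLocus_of_connected [IsProper f] [ConnectedSpace ↥(f.fiber (closedPoint R))]
    (hdim : ∀ Z ∈ irreducibleComponents ↥(f.fiber (closedPoint R)), topologicalKrullDim Z = 1)
    {L : X.Modules} (hL : PicF.IsInvertible L)
    (hdeg : ∀ Γ : ArSurf.VertComp R (Over.mk f), ArSurf.inter R (Over.mk f) L Γ = 0)
    (s : Coh.structureModule X ⟶ L) {x : X} (hx : f x = closedPoint R) (hxG : x ∈ CohB1.genLocus L s)
    {y : X} (hy : f y = closedPoint R) : y ∈ CohB1.genLocus L s := by
  obtain ⟨a, rfl⟩ : x ∈ Set.range (f.fiberι (closedPoint R)) := by rw [Scheme.Hom.range_fiberι]; exact hx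
  obtain ⟨b, rfl⟩ : y ∈ Set.range (f.fiberι (closedPoint R)) := by rw [Scheme.Hom.range_fiberι]; exact hy
  let S : Set ↥(f.fiber (closedPoint R)) := f.fiberι (closedPoint R) ⁻¹' (CohB1.genLocus L s : Set X)
  have hclosed : IsClosed S := by
    haveI : LocallyOfFiniteType (f.fiberToSpecResidueField (closedPoint R)) :=
      MorphismProperty.pullback_snd _ _ inferInstance
    haveI : QuasiCompact (f.fiberToSpecResidueField (closedPoint R)) :=
      MorphismProperty.pullback_snd _ _ inferInstance
    haveI : IsLocallyNoetherian (f.fiber (closedPoint R)) :=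
      LocallyOfFiniteType.isLocallyNoetherian (f.fiberToSpecResidueField (closedPoint R))
    haveI : CompactSpace ↥(f.fiber (closedPoint R)) :=
      QuasiCompact.compactSpace_of_compactSpace (f.fiberToSpecResidueField (closedPoint R))
    haveI : IsNoetherian (f.fiber (closedPoint R)) := {}
    have hfin : (irreducibleComponents ↥(f.fiber (closedPoint R))).Finite :=
      TopologicalSpace.NoetherianSpace.finite_irreducibleComponents
    have heq : S = ⋃ Z ∈ {Z ∈ irreducibleComponents ↥(f.fiber (closedPoint R)) | Z ⊆ S}, Z := by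
      refine Set.Subset.antisymm (fun z hz => ?_) (Set.iUnion₂_subset fun Z h => h.2)
      refine Set.mem_biUnion ⟨irreducibleComponent_mem_irreducibleComponents z, fun w hw => ?_⟩ mem_irreducibleComponent
      obtain ⟨Γ, hΓ⟩ := exists_vertComp f (irreducibleComponent_mem_irreducibleComponents z)
        (hdim _ (irreducibleComponent_mem_irreducibleComponents z))
      obtain ⟨c, hc⟩ : f.fiberι (closedPoint R) z ∈ Set.range Γ.ι := hΓ ▸ Set.mem_image_of_mem _ mem_irreducibleComponent
      obtain ⟨d, hd⟩ : f.fiberι (closedPoint R) w ∈ Set.range Γ.ι := hΓ ▸ Set.mem_image_of_mem _ hw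
      show f.fiberι (closedPoint R) w ∈ CohB1.genLocus L s
      rw [← hd]
      exact forall_mem_genLocus_of_inter_eq_zero f hL Γ (hdeg Γ) s c (hc ▸ hz) d
    rw [heq]
    exact (hfin.subset fun Z h => h.1).isClosed_biUnion fun Z h => isClosed_of_mem_irreducibleComponents Z h.1
  have hS : S = Set.univ := IsClopen.eq_univ ⟨hclosed, (CohB1.genLocus L s).isOpen.preimage
    (f.fiberι (closedPoint R)).continuous⟩ ⟨a, hxG⟩
  exact (hS ▸ Set.mem_univ b : b ∈ S)

/-- The frame on the generic fibre. -/
theorem exists_gen_of_iso_genericFibre (U : X.Opens) (hU : ∀ x, x ∈ U ↔ f x ≠ closedPoint R)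
    [IsOpenImmersion (pullback.fst f (Neron.genPt R))] {L : X.Modules} (hL : PicF.IsInvertible L)
    (h : Nonempty ((Scheme.Modules.pullback (pullback.fst f (Neron.genPt R))).obj L ≅
      Coh.structureModule (pullback f (Neron.genPt R)))) : ∃ τ : Γ(L, U), Gen U τ := by
  let g := pullback.fst f (Neron.genPt R)
  obtain ⟨σ, hσ⟩ := CubeLib.triv_iff.2 h
  have hr : (g.opensRange : Set X) = U := by
    rw [Scheme.Hom.coe_opensRange, Scheme.Pullback.range_fst, SurfPtBlow.range_genPt]
    ext x
    rw [Set.mem_preimage, Set.mem_singleton_iff, SetLike.mem_coe, hU]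
    constructor
    · intro e
      rw [e, genericPoint_eq_bot_of_affine]
      exact fun e => IsDiscreteValuationRing.not_a_field R (congrArg PrimeSpectrum.asIdeal e).symm
    · intro e
      rw [genericPoint_eq_bot_of_affine]
      by_contra h
      exact e (PrimeSpectrum.ext (IsLocalRing.eq_maximalIdeal
        (Ideal.IsPrime.isMaximal (f x).2 fun hb => h (PrimeSpectrum.ext hb))))
  have e : (⊤ : (pullback f (Neron.genPt R)).Opens) ≤ g ⁻¹ᵁ U := fun z _ => hr.le ⟨z, rfl⟩
  obtain ⟨τ, hτ⟩ := (EtAssocLib.pullMap_bijective g L e (fun x hx => hr.ge hx) le_top).2 σ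
  refine ⟨τ, CubeLib.gen_of_pullMap g hL e (fun x hx => ?_) (by rw [hτ]; exact hσ)⟩
  obtain ⟨z, hz⟩ := hr.ge hx
  exact ⟨z, trivial, hz⟩

end Groth.Agent.GenTrivVertLib
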