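import Groth.Agent.AmpleLib.GenLocus
import Groth.Agent.AmpleLib.Tensor
import Groth.Agent.CubeLib.Artin
import Groth.Agent.GenFree.Modules
import Groth.Agent.InvExt.Main
import Groth.Agent.QCohLib.Push

/-!
# Dividing sections of invertible modules by a regular function

An invertible module with a frame over the nonvanishing locus of a regular function `t` cutting out a reduced
closed set has a frame, as soon as the generation loci of the sections extending such frames are empty or everything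
on the zero set of `t`.
-/

set_option autoImplicit false
set_option backward.isDefEq.respectTransparency false
set_option linter.style.haveILetI false

universe u

open CategoryTheory AlgebraicGeometry TopologicalSpace Opposite
open Groth.Agent.ParaFLib Groth.Agent.AmpleLib Groth.Agent.CohBase

noncomputable section

namespace Groth.Agent.GenTrivVertLib

variable {X : Scheme.{u}} {L : X.Modules}

/-- The germ of a global function. -/
abbrev gT (t : Γ(X, ⊤)) (x : X) : X.presheaf.stalk x := X.presheaf.germ ⊤ x trivial t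

theorem eq_zero_of_smul_eq_zero (hL : PicF.IsInvertible L) {x : X} {a : X.presheaf.stalk x}
    (ha : ∀ v, a * v = 0 → v = 0) {z : L.presheaf.stalk x} (hz : a • z = 0) : z = 0 := by
  obtain ⟨e, he⟩ := exists_stalk_gen hL x
  obtain ⟨v, rfl⟩ := he.2 z
  change a • v • e = 0 at hz
  have : a * v = 0 := he.1 (show (a * v) • e = (0 : X.presheaf.stalk x) • e by rw [mul_smul, hz, zero_smul])
  show v • e = 0
  rw [ha v this, zero_smul]

/-- A section divisible by a regular function at every stalk is divisible. -/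
theorem exists_smul_eq_of_germ (hL : PicF.IsInvertible L) (t : Γ(X, ⊤))
    (hreg : ∀ (x : X) (v : X.presheaf.stalk x), gT t x * v = 0 → v = 0) (s : Γ(L, ⊤))
    (h : ∀ x : X, ∃ v : L.presheaf.stalk x, gT t x • v = L.presheaf.germ ⊤ x trivial s) :
    ∃ s' : Γ(L, ⊤), t • s' = s := by
  have loc : ∀ x : X, ∃ (W : X.Opens) (_ : x ∈ W) (r : Γ(L, W)),
      X.presheaf.map (homOfLE (le_top : W ≤ ⊤)).op t • r = resT s W := by
    intro x
    obtain ⟨v, hv⟩ := h x
    obtain ⟨U, hU, m, rfl⟩ := TopCat.Presheaf.exists_germ_eq L.presheaf v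
    rw [gT, ← TopCat.Presheaf.germ_res_apply X.presheaf (homOfLE (le_top : U ≤ ⊤)) x hU, ← germ_smul'] at hv
    obtain ⟨W, hW, i, i', hWeq⟩ := TopCat.Presheaf.germ_eq L.presheaf x hU (show x ∈ (⊤ : X.Opens) from trivial) _ _ hv
    rw [show i = homOfLE (leOfHom i) from rfl, show i' = homOfLE (leOfHom i') from rfl, L.map_smul] at hWeq
    refine ⟨W, hW, L.presheaf.map (homOfLE (leOfHom i)).op m, ?_⟩
    refine Eq.trans ?_ hWeq
    rw [← ConcreteCategory.comp_apply (X.presheaf.map _) (X.presheaf.map _), ← Functor.map_comp]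
    rfl
  choose W hxW r hr using loc
  let F : TopCat.Sheaf Ab.{u} X.carrier := ⟨L.presheaf, L.isSheaf⟩
  obtain ⟨s', hs', -⟩ := F.existsUnique_gluing' W ⊤ (fun x => homOfLE le_top)
    (fun x _ => Opens.mem_iSup.2 ⟨x, hxW x⟩) r (by
      intro i j
      refine TopCat.Presheaf.section_ext F _ _ _ fun y hy => ?_
      show L.presheaf.germ _ y hy (L.presheaf.map (homOfLE inf_le_left).op (r i)) =
        L.presheaf.germ _ y hy (L.presheaf.map (homOfLE inf_le_right).op (r j))
      rw [TopCat.Presheaf.germ_res_apply, TopCat.Presheaf.germ_res_apply, ← sub_eq_zero]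
      refine eq_zero_of_smul_eq_zero hL (hreg y) ?_
      rw [smul_sub, sub_eq_zero]
      have hi := congrArg (L.presheaf.germ (W i) y hy.1) (hr i)
      have hj := congrArg (L.presheaf.germ (W j) y hy.2) (hr j)
      rw [germ_smul', TopCat.Presheaf.germ_res_apply, resT, TopCat.Presheaf.germ_res_apply] at hi hj
      exact hi.trans hj.symm)
  refine ⟨s', F.eq_of_locally_eq' W ⊤ (fun x => homOfLE le_top) (fun x _ => Opens.mem_iSup.2 ⟨x, hxW x⟩) _ _
    fun x => ?_⟩
  show L.presheaf.map (homOfLE le_top).op (t • s') = resT s (W x)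
  rw [L.map_smul, ← hr x]
  exact congrArg _ (hs' x)

/-- An inclusion of basic opens in an affine open gives divisibility of a power. -/
theorem exists_pow_eq_mul_of_basicOpen_le {W : X.Opens} (hW : IsAffineOpen W) {a b : Γ(X, W)}
    (h : X.basicOpen a ≤ X.basicOpen b) : ∃ (n : ℕ) (c : Γ(X, W)), a ^ n = b * c := by
  have h1 : hW.fromSpec ⁻¹ᵁ X.basicOpen a ≤ hW.fromSpec ⁻¹ᵁ X.basicOpen b := hW.fromSpec.preimage_mono h
  rw [hW.fromSpec_preimage_basicOpen, hW.fromSpec_preimage_basicOpen] at h1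
  obtain ⟨n, hn⟩ := (PrimeSpectrum.basicOpen_le_basicOpen_iff a b).1 h1
  obtain ⟨c, hc⟩ := Ideal.mem_span_singleton.1 hn
  exact ⟨n, c, hc⟩

/-- The germ of a section extending a frame of a nonempty part is nonzero. -/
theorem germ_ne_zero {t : Γ(X, ⊤)} (hreg : ∀ (x : X) (v : X.presheaf.stalk x), gT t x * v = 0 → v = 0)
    {s : Γ(L, ⊤)} (hs : Gen (X.basicOpen t) (resT s (X.basicOpen t))) (x : X) :
    L.presheaf.germ ⊤ x trivial s ≠ 0 := by
  intro h0
  obtain ⟨V, hxV, i, i', hV⟩ := TopCat.Presheaf.germ_eq L.presheaf x (show x ∈ (⊤ : X.Opens) from trivial)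
    (show x ∈ (⊤ : X.Opens) from trivial) s 0 (by rw [h0, map_zero])
  rw [map_zero] at hV
  obtain ⟨_, ⟨W, hW, rfl⟩, hxW, hle⟩ := X.isBasis_affineOpens.exists_subset_of_mem_open hxV V.isOpen
  have hb : X.basicOpen (X.presheaf.map (homOfLE (le_top : W ≤ ⊤)).op t) ≤ X.basicOpen (0 : Γ(X, W)) := by
    rw [Scheme.basicOpen_res]
    rintro y ⟨hyW, hyt⟩
    exfalso
    have hb := hs.bijective_germ y hyt
    rw [resT, TopCat.Presheaf.germ_res_apply] at hb
    have hz : L.presheaf.germ ⊤ y trivial s = 0 := by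
      rw [← TopCat.Presheaf.germ_res_apply L.presheaf i y (hle hyW), hV, map_zero]
    rw [hz] at hb
    exact one_ne_zero (hb.1 (show (1 : X.presheaf.stalk y) • _ = (0 : X.presheaf.stalk y) • _ by simp))
  obtain ⟨n, c, hc⟩ := exists_pow_eq_mul_of_basicOpen_le hW hb
  rw [zero_mul] at hc
  have hp : gT t x ^ n = 0 := by
    have := congrArg (X.presheaf.germ W x hxW) hc
    rwa [map_pow, map_zero, TopCat.Presheaf.germ_res_apply] at this
  have : ∀ m, gT t x ^ m * (1 : X.presheaf.stalk x) ≠ 0 := by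
    intro m
    induction m with
    | zero => simp
    | succ m ih => rw [pow_succ', mul_assoc]; exact fun e => ih (hreg x _ e)
  exact this n (by rw [hp, zero_mul])

/-- A section of which no point of the zero set of `t` is a generation point is divisible by `t`, when the zero
set is reduced. -/
theorem exists_smul_eq_of_not_mem_genLocus (hL : PicF.IsInvertible L) (t : Γ(X, ⊤))
    (hreg : ∀ (x : X) (v : X.presheaf.stalk x), gT t x * v = 0 → v = 0)
    (hred : ∀ x : X, x ∉ X.basicOpen t → (Ideal.span {gT t x}).IsRadical) (s : Γ(L, ⊤))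
    (hs : ∀ x : X, x ∉ X.basicOpen t → x ∉ CohB1.genLocus L (DCohLib.secHom L s)) :
    ∃ s' : Γ(L, ⊤), t • s' = s := by
  refine exists_smul_eq_of_germ hL t hreg s fun x => ?_
  by_cases hx : x ∈ X.basicOpen t
  · obtain ⟨c, hc⟩ := isUnit_iff_exists_inv.1 ((X.mem_basicOpen_top t x).1 hx)
    exact ⟨c • L.presheaf.germ ⊤ x trivial s, by rw [smul_smul]; erw [hc]; rw [one_smul]⟩
  obtain ⟨W₀, e₀, hx₀, he₀⟩ := exists_gen_nhd hL x
  obtain ⟨_, ⟨W, hW, rfl⟩, hxW, hle'⟩ := X.isBasis_affineOpens.exists_subset_of_mem_open hx₀ W₀.isOpen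
  have hle : W ≤ W₀ := hle'
  have he := he₀.res (W' := W) hle
  obtain ⟨a, ha⟩ := (he W le_rfl).2 (resT s W)
  simp only [res_self] at ha
  have hG := genLocus_inf_eq_basicOpen (DCohLib.secHom L s) he (a := a) (by rw [sec_secHom]; exact ha)
  have hb : X.basicOpen a ≤ X.basicOpen (X.presheaf.map (homOfLE (le_top : W ≤ ⊤)).op t) := by
    rw [Scheme.basicOpen_res]
    intro y hy
    refine ⟨X.basicOpen_le a hy, ?_⟩
    by_contra hyt
    exact hs y hyt (hG.ge hy).1
  obtain ⟨n, c, hc⟩ := exists_pow_eq_mul_of_basicOpen_le hW hb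
  have hmem : X.presheaf.germ W x hxW a ∈ Ideal.span {gT t x} := by
    refine hred x hx ⟨n, ?_⟩
    rw [← map_pow, hc, map_mul, TopCat.Presheaf.germ_res_apply]
    exact Ideal.mul_mem_right _ _ (Ideal.mem_span_singleton_self _)
  obtain ⟨d, hd⟩ := Ideal.mem_span_singleton.1 hmem
  refine ⟨d • L.presheaf.germ W x hxW (L.presheaf.map (homOfLE hle).op e₀), ?_⟩
  rw [smul_smul, ← hd, ← germ_smul', ha, resT, TopCat.Presheaf.germ_res_apply]

/-- **Extending a frame over the zero set of a regular function.** -/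
theorem triv_of_gen_basicOpen [IsLocallyNoetherian X] [CompactSpace X] [QuasiSeparatedSpace X]
    (hL : PicF.IsInvertible L) (t : Γ(X, ⊤))
    (hreg : ∀ (x : X) (v : X.presheaf.stalk x), gT t x * v = 0 → v = 0)
    (hred : ∀ x : X, x ∉ X.basicOpen t → (Ideal.span {gT t x}).IsRadical)
    (hdich : ∀ s : Γ(L, ⊤), Gen (X.basicOpen t) (resT s (X.basicOpen t)) →
      (∃ x, x ∉ X.basicOpen t ∧ x ∈ CohB1.genLocus L (DCohLib.secHom L s)) →
      ∀ x, x ∉ X.basicOpen t → x ∈ CohB1.genLocus L (DCohLib.secHom L s))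
    (τ : Γ(L, X.basicOpen t)) (hτ : Gen (X.basicOpen t) τ) : CubeLib.Triv L := by
  haveI := InvExt.isQCoh_of_isInvertible hL
  obtain ⟨n, s, hs⟩ := QCohLib.exists_pow_extend_of_isQuasiSeparated L (V := ⊤) CompactSpace.isCompact_univ
    (isQuasiSeparated_univ (α := X)) t τ
  have hsU : Gen (X.basicOpen t) (resT s (X.basicOpen t)) := by
    rw [resT, hs, sc_apply, map_pow]
    exact hτ.smul ((RingedSpace.isUnit_res_basicOpen _ t).pow n)
  have hfin : ∀ s : Γ(L, ⊤), Gen (X.basicOpen t) (resT s (X.basicOpen t)) →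
      (∀ x, x ∉ X.basicOpen t → x ∈ CohB1.genLocus L (DCohLib.secHom L s)) → CubeLib.Triv L := by
    intro s hsU hF
    refine ⟨s, gen_of_germ fun x _ => ?_⟩
    have hx : x ∈ CohB1.genLocus L (DCohLib.secHom L s) := by
      by_cases hx : x ∈ X.basicOpen t
      · exact mem_genLocus_iff'.2 ⟨_, hx, by rw [sec_secHom]; exact hsU⟩
      · exact hF x hx
    have := (mem_genLocus_iff hL).1 hx
    rwa [sec_secHom] at this
  by_cases hne : ∀ x : X, x ∈ X.basicOpen t
  · exact hfin s hsU fun x hx => absurd (hne x) hx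
  push Not at hne
  obtain ⟨x₀, hx₀⟩ := hne
  have hmain : ∀ (m : ℕ) (s : Γ(L, ⊤)), Gen (X.basicOpen t) (resT s (X.basicOpen t)) →
      (¬ ∃ v, gT t x₀ ^ m • v = L.presheaf.germ ⊤ x₀ trivial s) → CubeLib.Triv L := by
    intro m
    induction m with
    | zero => exact fun s _ h => absurd ⟨_, by rw [pow_zero, one_smul]⟩ h
    | succ m ih =>
      intro s hsU h
      by_cases hG : ∃ x, x ∉ X.basicOpen t ∧ x ∈ CohB1.genLocus L (DCohLib.secHom L s)
      · exact hfin s hsU (hdich s hsU hG)
      push Not at hG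
      obtain ⟨s', rfl⟩ := exists_smul_eq_of_not_mem_genLocus hL t hreg hred s hG
      refine ih s' (gen_of_germ fun x hx => ?_) ?_
      · have hb := hsU.bijective_germ x hx
        rw [resT, TopCat.Presheaf.germ_res_apply, germ_smul'] at hb
        rw [resT, TopCat.Presheaf.germ_res_apply]
        obtain ⟨u, hu⟩ : IsUnit (gT t x) := (X.mem_basicOpen_top t x).1 hx
        rw [show X.presheaf.germ ⊤ x trivial t = (u : X.presheaf.stalk x) from hu.symm] at hb
        have e : (fun r : X.presheaf.stalk x => r • L.presheaf.germ ⊤ x trivial s') =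
            (fun r => r • (u : X.presheaf.stalk x) • L.presheaf.germ ⊤ x trivial s') ∘
              fun r : X.presheaf.stalk x => r * ↑u⁻¹ := funext fun r => by
          show _ = (r * _) • _ • _
          rw [smul_smul, mul_assoc, Units.inv_mul, mul_one]
        rw [e]
        exact hb.comp (Units.mulRight u⁻¹).bijective
      · rintro ⟨v, hv⟩
        refine h ⟨v, ?_⟩
        rw [germ_smul', pow_succ', mul_smul, hv]
  have hne0 := germ_ne_zero hreg hsU x₀
  obtain ⟨e, he⟩ := exists_stalk_gen hL x₀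
  obtain ⟨c, hc⟩ := he.2 (L.presheaf.germ ⊤ x₀ trivial s)
  change c • e = _ at hc
  have hc0 : c ≠ 0 := fun h => hne0 (by rw [← hc, h, zero_smul])
  obtain ⟨m, hm⟩ : ∃ m : ℕ, c ∉ Ideal.span {gT t x₀} ^ m := by
    by_contra! hall
    refine hc0 ?_
    have hne : Ideal.span {gT t x₀} ≠ ⊤ := fun h =>
      hx₀ ((X.mem_basicOpen_top t x₀).2 (Ideal.span_singleton_eq_top.1 h))
    have := Ideal.iInf_pow_eq_bot_of_isLocalRing _ hne
    rw [← Ideal.mem_bot, ← this, Ideal.mem_iInf]
    exact hall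
  refine hmain m s hsU ?_
  rintro ⟨v, hv⟩
  obtain ⟨w, rfl⟩ := he.2 v
  refine hm ?_
  rw [Ideal.span_singleton_pow, Ideal.mem_span_singleton]
  refine ⟨w, he.1 ?_⟩
  show c • e = (_ * w) • e
  rw [hc, mul_smul, ← hv]

end Groth.Agent.GenTrivVertLib
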