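import Groth.Agent.FlatLocus.FibreStalk
import Groth.Prelude
import Mathlib.RingTheory.DiscreteValuationRing.Basic
import Mathlib.RingTheory.Flat.TorsionFree

/-!
# The pullback of a uniformizer on a flat scheme over a discrete valuation ring
-/

set_option autoImplicit false
set_option backward.isDefEq.respectTransparency false
set_option linter.style.haveILetI false

universe u

open CategoryTheory CategoryTheory.Limits AlgebraicGeometry IsLocalRing

noncomputable section

namespace Groth.Agent.GenTrivVertLib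

variable {R : Type u} [CommRing R] [IsDomain R] [IsDiscreteValuationRing R]

theorem mem_basicOpen_uniformizer {ϖ : R} (hϖ : Irreducible ϖ) (p : Spec (CommRingCat.of R)) :
    p ∈ (Spec (CommRingCat.of R)).basicOpen ((Scheme.ΓSpecIso (CommRingCat.of R)).inv ϖ) ↔
      p ≠ closedPoint R := by
  rw [basicOpen_eq_of_affine', Iso.inv_hom_id_apply]
  show ϖ ∉ (p : PrimeSpectrum R).asIdeal ↔ _
  constructor
  · rintro h rfl
    exact h hϖ.not_isUnit
  · intro h hmem
    refine h (PrimeSpectrum.ext ?_)
    refine ((le_maximalIdeal (p : PrimeSpectrum R).2.ne_top).antisymm ?_)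
    show maximalIdeal R ≤ _
    rw [hϖ.maximalIdeal_eq, Ideal.span_singleton_le_iff_mem]
    exact hmem

variable {X : Scheme.{u}} (f : X ⟶ Spec (CommRingCat.of R))

theorem mem_basicOpen_toGlobal {ϖ : R} (hϖ : Irreducible ϖ) (x : X) :
    x ∈ X.basicOpen (Coh.toGlobal f ϖ) ↔ f x ≠ closedPoint R := by
  rw [← mem_basicOpen_uniformizer hϖ]
  exact SetLike.ext_iff.mp (Scheme.preimage_basicOpen_top f _).symm x

theorem germ_toGlobal_eq (r : R) (x : X) :
    X.presheaf.germ ⊤ x trivial (Coh.toGlobal f r) = (f.stalkMap x).hom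
      ((Spec (CommRingCat.of R)).presheaf.germ ⊤ (f x) trivial ((Scheme.ΓSpecIso (CommRingCat.of R)).inv r)) :=
  (Scheme.Hom.germ_stalkMap_apply f ⊤ x trivial _).symm

omit [IsDomain R] [IsDiscreteValuationRing R] in
theorem germ_eq_algebraMap (r : R) (p : Spec (CommRingCat.of R)) :
    letI : Algebra R ((Spec (CommRingCat.of R)).presheaf.stalk p) := StructureSheaf.stalkAlgebra R p
    (Spec (CommRingCat.of R)).presheaf.germ ⊤ p trivial ((Scheme.ΓSpecIso (CommRingCat.of R)).inv r) =
      algebraMap R ((Spec (CommRingCat.of R)).presheaf.stalk p) r := rfl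

theorem toGlobal_regular [Flat f] {r : R} (hr : r ≠ 0) (x : X) (v : X.presheaf.stalk x)
    (hv : X.presheaf.germ ⊤ x trivial (Coh.toGlobal f r) * v = 0) : v = 0 := by
  rw [germ_toGlobal_eq, germ_eq_algebraMap] at hv
  letI : Algebra R ((Spec (CommRingCat.of R)).presheaf.stalk (f x)) := StructureSheaf.stalkAlgebra R (f x)
  haveI : IsLocalization.AtPrime (R := R) ((Spec (CommRingCat.of R)).presheaf.stalk (f x)) (f x).asIdeal :=
    StructureSheaf.IsLocalization.to_stalk R (f x)
  letI := (f.stalkMap x).hom.toAlgebra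
  haveI : Module.Flat ((Spec (CommRingCat.of R)).presheaf.stalk (f x)) (X.presheaf.stalk x) := Flat.stalkMap f x
  have hinj : Function.Injective (algebraMap R ((Spec (CommRingCat.of R)).presheaf.stalk (f x))) :=
    IsLocalization.injective _ (Ideal.primeCompl_le_nonZeroDivisors (f x).asIdeal)
  haveI : IsDomain ((Spec (CommRingCat.of R)).presheaf.stalk (f x)) :=
    IsLocalization.isDomain_of_atPrime _ (f x).asIdeal
  have h0 : algebraMap R ((Spec (CommRingCat.of R)).presheaf.stalk (f x)) r ≠ 0 :=
    fun e => hr (hinj (e.trans (map_zero _).symm))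
  exact (Module.Flat.isSMulRegular_of_isRegular (M := X.presheaf.stalk x) (isRegular_of_ne_zero h0)).right_eq_zero_of_smul
    hv

theorem isRadical_span_toGlobal [IsReduced (f.fiber (closedPoint R))] {ϖ : R} (hϖ : Irreducible ϖ) (x : X)
    (hx : f x = closedPoint R) :
    (Ideal.span {X.presheaf.germ ⊤ x trivial (Coh.toGlobal f ϖ)}).IsRadical := by
  obtain ⟨z, rfl⟩ : x ∈ Set.range (f.fiberι (closedPoint R)) := by rw [Scheme.Hom.range_fiberι]; exact hx
  rw [germ_toGlobal_eq, germ_eq_algebraMap]
  letI : Algebra R ((Spec (CommRingCat.of R)).presheaf.stalk (f (f.fiberι _ z))) :=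
    StructureSheaf.stalkAlgebra R (f (f.fiberι _ z))
  haveI : IsLocalization.AtPrime (R := R) ((Spec (CommRingCat.of R)).presheaf.stalk (f (f.fiberι _ z)))
      (f (f.fiberι _ z)).asIdeal := StructureSheaf.IsLocalization.to_stalk R _
  have hm : maximalIdeal ((Spec (CommRingCat.of R)).presheaf.stalk (f (f.fiberι _ z))) =
      Ideal.span {algebraMap R ((Spec (CommRingCat.of R)).presheaf.stalk (f (f.fiberι _ z))) ϖ} := by
    rw [← IsLocalization.AtPrime.map_eq_maximalIdeal (f (f.fiberι (closedPoint R) z)).asIdeal,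
      show (f (f.fiberι (closedPoint R) z)).asIdeal = maximalIdeal R from congrArg PrimeSpectrum.asIdeal hx,
      hϖ.maximalIdeal_eq, Ideal.map_span, Set.image_singleton]
  rw [← Set.image_singleton (f := (f.stalkMap _).hom), ← Ideal.map_span, ← hm, ← FlatLocus.ker_fiberι_stalkMap f _ z]
  intro a ha
  obtain ⟨n, hn⟩ := ha
  rw [RingHom.mem_ker, map_pow] at hn
  exact RingHom.mem_ker.2 (eq_zero_of_pow_eq_zero hn)

/-- The generic point of a discrete valuation ring is open (as in `CastLib.HensContract`). -/
theorem isOpenImmersion_genPt : IsOpenImmersion (Neron.genPt R) := by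
  obtain ⟨π, hπ⟩ := IsDiscreteValuationRing.exists_irreducible R
  haveI : IsLocalization.Away π (FractionRing R) := by
    refine ⟨?_, fun z => ?_, fun {a b} h => ⟨1, by rw [IsFractionRing.injective R (FractionRing R) h]⟩⟩
    · rintro ⟨_, n, rfl⟩
      exact isUnit_iff_ne_zero.2 fun h => pow_ne_zero n hπ.ne_zero
        (IsFractionRing.injective R (FractionRing R) (h.trans (map_zero _).symm))
    · obtain ⟨a, b, hb, rfl⟩ := IsFractionRing.div_surjective (A := R) z
      obtain ⟨n, v, rfl⟩ := IsDiscreteValuationRing.eq_unit_mul_pow_irreducible (nonZeroDivisors.ne_zero hb) hπ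
      refine ⟨(a * ↑v⁻¹, ⟨π ^ n, n, rfl⟩), ?_⟩
      show algebraMap R (FractionRing R) a / algebraMap R (FractionRing R) (↑v * π ^ n) *
        algebraMap R (FractionRing R) (π ^ n) = algebraMap R (FractionRing R) (a * ↑v⁻¹)
      have hπn : algebraMap R (FractionRing R) (π ^ n) ≠ 0 := fun h => pow_ne_zero n hπ.ne_zero
        (IsFractionRing.injective R (FractionRing R) (h.trans (map_zero _).symm))
      have hv : algebraMap R (FractionRing R) (↑v⁻¹ : R) * algebraMap R (FractionRing R) (v : R) = 1 := by
        rw [← map_mul, Units.inv_mul, map_one]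
      have hv0 : algebraMap R (FractionRing R) (v : R) ≠ 0 := fun h => by
        rw [h, mul_zero] at hv; exact zero_ne_one hv
      rw [map_mul, map_mul, div_mul_eq_mul_div, mul_div_mul_right _ _ hπn, div_eq_iff hv0, mul_assoc, hv, mul_one]
  exact IsOpenImmersion.of_isLocalization π

end Groth.Agent.GenTrivVertLib
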